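import Groth.Agent.EulerLib.StabBasic
import Groth.Agent.CAlgH3.EN.Support
import Groth.Agent.AmpleLib.FTIdeal
import Groth.Agent.Coherent.CohOps
import Groth.Agent.Coherent.Devissage
import Groth.Agent.Coherent.RpushSupport
import Groth.Prelude.Def_W4swparbununimodPar
import Mathlib.CategoryTheory.Abelian.CommSq
import Mathlib.Analysis.Asymptotics.SpecificAsymptotics

/-!
# Hilbert polynomials of the pieces of a parabolic structure along a divisor
-/

set_option autoImplicit false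
set_option linter.style.haveILetI false
set_option backward.isDefEq.respectTransparency false

universe u

open CategoryTheory CategoryTheory.Limits AlgebraicGeometry Polynomial StabCat Opposite
open Groth.Agent Groth.Agent.Coherent Groth.Agent.PicLib Groth.Agent.EulerLib

namespace Groth.Agent.ParHilbW15

section Supp

variable {X : Scheme.{u}}

theorem support_cokernel_twistMap (I : X.IdealSheafData) (E : X.Modules) :
    CohB1.support (cokernel (ParSh.twistMap I E)) ⊆ (I.support : Set X) := by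
  intro y hy
  by_contra hy'
  refine CAlgH3.EN.notMem_support_cokernel _ (fun V hV b => ?_) hy
  let O : X.Opens := ⟨(I.support : Set X)ᶜ, I.support.2.isOpen_compl⟩
  obtain ⟨k, hk⟩ := AmpleLib.exists_idealModι_eq_one I
  refine ⟨V ⊓ O, inf_le_left, ⟨hV, hy'⟩,
    SecTwist.tmul E (ClSub.idealMod I) (V ⊓ O) (resM E inf_le_left b) (resM _ inf_le_right k), ?_⟩
  have h1 : (ClSub.idealModι I).app (V ⊓ O) (resM _ inf_le_right k) = (1 : Γ(X, V ⊓ O)) := by
    refine (app_resM (ClSub.idealModι I) inf_le_right k).trans ?_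
    refine (congrArg (resM (Coh.structureModule X) inf_le_right) hk).trans ?_
    exact map_one (X.presheaf.map (homOfLE (inf_le_right : V ⊓ O ≤ O)).op).hom
  show (SecTwist.unitorR E).hom.app (V ⊓ O)
      ((KoszTw.tensorMap (𝟙 E) (ClSub.idealModι I)).app (V ⊓ O) _) = _
  refine (congrArg ((SecTwist.unitorR E).hom.app (V ⊓ O)) (KoszTw.tensorMap_tmul _ _ _ _ _)).trans ?_
  refine (SecTwist.unitorR_tmul E (V ⊓ O) (resM E inf_le_left b)
    ((ClSub.idealModι I).app (V ⊓ O) (resM _ inf_le_right k))).trans ?_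
  rw [h1]
  exact one_smul Γ(X, V ⊓ O) (resM E inf_le_left b)

/-- A subobject containing `I·E` has its quotient supported on `Supp E ∩ V(I)`. -/
theorem support_cokernel_of_twistSub_le (I : X.IdealSheafData) {E : X.Modules} {P : Subobject E}
    (h : ParSh.twistSub I E ≤ P) :
    CohB1.support (cokernel P.arrow) ⊆ CohB1.support E ∩ (I.support : Set X) := by
  refine Set.subset_inter (support_subset_of_epi (cokernel.π P.arrow)) ?_
  have hc : ParSh.twistMap I E ≫ cokernel.π P.arrow = 0 := by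
    have h' : imageSubobject (ParSh.twistMap I E) ≤ P := h
    have e : (factorThruImageSubobject (ParSh.twistMap I E) ≫ Subobject.ofLE _ _ h') ≫ P.arrow =
        ParSh.twistMap I E := by
      rw [Category.assoc, Subobject.ofLE_arrow]
      exact imageSubobject_arrow_comp _
    rw [← e, Category.assoc, cokernel.condition, CategoryTheory.Limits.comp_zero]
  have : Epi (cokernel.desc (ParSh.twistMap I E) (cokernel.π P.arrow) hc) :=
    epi_of_epi_fac (cokernel.π_desc _ _ _)
  exact (support_subset_of_epi (cokernel.desc (ParSh.twistMap I E) (cokernel.π P.arrow) hc)).trans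
    (support_cokernel_twistMap I E)

variable {E : X.Modules} (𝓔 : ParSh.Str E)

theorem support_piece {I : X.IdealSheafData} (h : 𝓔.Along I) (j : Fin (𝓔.l + 2)) :
    CohB1.support (cokernel (𝓔.pieceX j).arrow) ⊆ CohB1.support E ∩ (I.support : Set X) :=
  support_cokernel_of_twistSub_le I (h ▸ 𝓔.bot_le_pieceX j)

theorem induced_pieceX {W : X.Modules} (ι : W ⟶ E) (j : Fin (𝓔.l + 2)) :
    (𝓔.induced ι).pieceX j = (Subobject.pullback ι).obj (𝓔.pieceX j) := by
  induction j using Fin.lastCases with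
  | last => exact (Fin.lastCases_last).trans (by rw [ParSh.Str.pieceX_last]; rfl)
  | cast j => exact (Fin.lastCases_castSucc j).trans (by rw [ParSh.Str.pieceX_castSucc]; rfl)

theorem support_induced {W : X.Modules} (ι : W ⟶ E) [Mono ι] (j : Fin (𝓔.l + 2)) :
    CohB1.support (cokernel ((𝓔.induced ι).pieceX j).arrow) ⊆
      CohB1.support (cokernel (𝓔.pieceX j).arrow) := by
  rw [induced_pieceX]
  have := Abelian.mono_cokernel_map_of_isPullback (Subobject.isPullback ι (𝓔.pieceX j)).flip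
  exact support_subset_of_mono (cokernel.map _ _ _ _ (Subobject.isPullback ι (𝓔.pieceX j)).flip.w)

theorem isCoh_pullback [IsLocallyNoetherian X] {W : X.Modules} (ι : W ⟶ E) (hW : Coh.IsCoh W)
    (hE : Coh.IsCoh E) (P : Subobject E) (hP : Coh.IsCoh (P : X.Modules)) :
    Coh.IsCoh ((((Subobject.pullback ι).obj P : Subobject W)) : X.Modules) := by
  have hc := isCoh_cokernel P.arrow hP.1 hE
  have sq := Subobject.isPullback ι P
  have hz : (ShortComplex.mk P.arrow (cokernel.π P.arrow) (cokernel.condition _)).Exact :=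
    ShortComplex.exact_cokernel P.arrow
  let a : (((Subobject.pullback ι).obj P : Subobject W) : X.Modules) ⟶ kernel (ι ≫ cokernel.π P.arrow) :=
    kernel.lift _ ((Subobject.pullback ι).obj P).arrow
      (by rw [← Category.assoc, ← sq.w, Category.assoc, cokernel.condition, CategoryTheory.Limits.comp_zero])
  let b : kernel (ι ≫ cokernel.π P.arrow) ⟶ (((Subobject.pullback ι).obj P : Subobject W) : X.Modules) :=
    sq.lift (hz.lift (kernel.ι _ ≫ ι) (by rw [Category.assoc]; exact kernel.condition _)) (kernel.ι _)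
      (hz.lift_f _ _)
  refine isCoh_of_iso (Iso.mk b a ?_ ?_) (isCoh_kernel _ hW hc.1)
  · rw [← cancel_mono (kernel.ι _)]
    simp [a, b]
  · rw [← cancel_mono ((Subobject.pullback ι).obj P).arrow]
    simp [a, b]

theorem isCoh_induced [IsLocallyNoetherian X] {W : X.Modules} (ι : W ⟶ E) (hW : Coh.IsCoh W)
    (hE : Coh.IsCoh E) (hcoh : ∀ j, Coh.IsCoh ((𝓔.pieceX j : Subobject E) : X.Modules))
    (j : Fin (𝓔.l + 2)) : Coh.IsCoh (((𝓔.induced ι).pieceX j : Subobject W) : X.Modules) := by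
  rw [induced_pieceX]
  exact isCoh_pullback ι hW hE _ (hcoh j)

theorem isZero_cokernel_zero : IsZero (cokernel (𝓔.pieceX 0).arrow) := by
  have h : 𝓔.pieceX (0 : Fin (𝓔.l + 1)).castSucc = ⊤ := by
    rw [ParSh.Str.pieceX_castSucc, 𝓔.piece_zero]
  rw [show (0 : Fin (𝓔.l + 2)) = (0 : Fin (𝓔.l + 1)).castSucc from rfl]
  have : IsIso (𝓔.pieceX (0 : Fin (𝓔.l + 1)).castSucc).arrow := Subobject.isIso_arrow_iff_eq_top _ |>.2 h
  exact isZero_cokernel_of_epi _

theorem pieceX_succ_le (j : Fin (𝓔.l + 1)) : 𝓔.pieceX j.succ ≤ 𝓔.pieceX j.castSucc := by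
  induction j using Fin.lastCases with
  | last => simpa using 𝓔.bot_le _
  | cast i => simpa using 𝓔.piece_anti i.castSucc_le_succ

theorem wtX_succ_sub_pos (j : Fin (𝓔.l + 1)) : 0 < 𝓔.wtX j.succ - 𝓔.wtX j.castSucc := by
  induction j using Fin.lastCases with
  | last => rw [Fin.succ_last, 𝓔.wtX_last, 𝓔.wtX_castSucc]; linarith [𝓔.wt_lt_one]
  | cast i =>
    rw [Fin.succ_castSucc, 𝓔.wtX_castSucc, 𝓔.wtX_castSucc]
    linarith [𝓔.wt_strictMono i.castSucc_lt_succ]

theorem wt_nonneg' (j : Fin (𝓔.l + 1)) : 0 ≤ 𝓔.wt j :=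
  𝓔.wt_nonneg.trans (𝓔.wt_strictMono.monotone (Fin.zero_le j))

end Supp

section Hilb

variable (k : Type u) [Field k] {X : Scheme.{u}} [X.Over (Spec (CommRingCat.of k))]
  [IsProper (X ↘ Spec (CommRingCat.of k))]

include k in
theorem isLocallyNoetherian : IsLocallyNoetherian X :=
  LocallyOfFiniteType.isLocallyNoetherian (X ↘ Spec (CommRingCat.of k))

theorem le_pred_of_lt {x : WithBot ℕ∞} {d : ℕ} (hd : 1 ≤ d) (h : x < (d : WithBot ℕ∞)) :
    x ≤ ((d - 1 : ℕ) : WithBot ℕ∞) := by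
  obtain ⟨e, rfl⟩ : ∃ e, d = e + 1 := ⟨d - 1, by omega⟩
  induction x using WithBot.recBotCoe with
  | bot => exact bot_le
  | coe a =>
    have h' : a < (e : ℕ∞) + 1 := by
      have : ((a : WithBot ℕ∞)) < (((e + 1 : ℕ) : ℕ∞) : WithBot ℕ∞) := h
      exact_mod_cast WithBot.coe_lt_coe.1 this
    show (a : WithBot ℕ∞) ≤ ((e : ℕ∞) : WithBot ℕ∞)
    exact WithBot.coe_le_coe.2 ((ENat.lt_add_one_iff (ENat.natCast_ne_top e)).1 h')

variable {L : X.Modules} (hL : CohB1.IsAmple L)
include hL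

theorem coeff_eq_zero {F : X.Modules} (hF : Coh.IsCoh F) {P : ℚ[X]} (hP : ShStab.IsHilbPoly k X L F P)
    {d n : ℕ} (hn : d ≤ n) (hs : topologicalKrullDim (CohB1.support F) < (d : WithBot ℕ∞)) :
    P.coeff n = 0 := by
  have := alpha_eq_zero_of_dim_lt k hL.1 hF hP (r := n) (hs.trans_le (by exact_mod_cast hn))
  rcases mul_eq_zero.1 this with h | h
  · exact absurd h (by exact_mod_cast Nat.factorial_ne_zero n)
  · exact h

theorem coeff_nonneg {F : X.Modules} (hF : Coh.IsCoh F) {P : ℚ[X]} (hP : ShStab.IsHilbPoly k X L F P)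
    {d : ℕ} (hd : 1 ≤ d) (hs : topologicalKrullDim (CohB1.support F) < (d : WithBot ℕ∞)) :
    0 ≤ P.coeff (d - 1) :=
  nonneg_of_mul_nonneg_right (alpha_nonneg k hL hF hP (le_pred_of_lt hd hs))
    (by exact_mod_cast (d - 1).factorial_pos)

variable {E : X.Modules} (𝓔 : ParSh.Str E) (hE : Coh.IsCoh E)
  (hcoh : ∀ j, Coh.IsCoh ((𝓔.pieceX j : Subobject E) : X.Modules))

theorem exists_hilb_coker (hE : Coh.IsCoh E)
    (hcoh : ∀ j, Coh.IsCoh ((𝓔.pieceX j : Subobject E) : X.Modules)) :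
    ∃ H : Fin (𝓔.l + 2) → ℚ[X], ∀ j, ShStab.IsHilbPoly k X L (cokernel (𝓔.pieceX j).arrow) (H j) :=
  ⟨_, fun j => isHilbPoly_hp k hL _ (isCoh_cokernel (𝓔.pieceX j).arrow (hcoh j).1 hE)⟩

variable {P : ℚ[X]} {PX H : Fin (𝓔.l + 2) → ℚ[X]}
  (hP : ShStab.IsHilbPoly k X L E P)
  (hPX : ∀ j, ShStab.IsHilbPoly k X L ((𝓔.pieceX j : Subobject E) : X.Modules) (PX j))
  (hH : ∀ j, ShStab.IsHilbPoly k X L (cokernel (𝓔.pieceX j).arrow) (H j))

include hE hcoh hP hPX hH in
theorem hilb_piece (j : Fin (𝓔.l + 2)) : P = PX j + H j :=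
  hilb_ses k hL (shortExact_cokernel (𝓔.pieceX j).arrow) (hcoh j) hE
    (isCoh_cokernel _ (hcoh j).1 hE) (hPX j) hP (hH j)

include hH in
theorem H_zero : H 0 = 0 := hilb_zero k hL (isZero_cokernel_zero 𝓔) (hH 0)

include hE hcoh hP hPX hH in
/-- Abel summation. -/
theorem parPoly_eq : W4swparbununimod.parPoly 𝓔 PX = W4swparbununimod.rpoly P -
    ∑ j : Fin (𝓔.l + 1), Polynomial.C (𝓔.wtX j.succ - 𝓔.wtX j.castSucc) * W4swparbununimod.rpoly (H j.succ) := by
  let h := fun j => W4swparbununimod.rpoly (H j)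
  let g := fun j => Polynomial.C (𝓔.wtX j) * h j
  have hp : ∀ j, W4swparbununimod.rpoly (PX j) = W4swparbununimod.rpoly P - h j := fun j => by
    simp only [W4swparbununimod.rpoly, h]
    rw [hilb_piece k hL 𝓔 hE hcoh hP hPX hH j, Polynomial.map_add, add_sub_cancel_right]
  have A := Fin.sum_univ_succ g
  have B := Fin.sum_univ_castSucc g
  have g0 : g 0 = 0 := by simp [g, h, H_zero k hL 𝓔 hH]
  have gl : g (Fin.last _) = h (Fin.last _) := by simp [g]
  rw [g0, zero_add] at A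
  rw [gl] at B
  have key : ∑ j : Fin (𝓔.l + 1), Polynomial.C (𝓔.wtX j.succ - 𝓔.wtX j.castSucc) * h j.succ =
      h (Fin.last _) - ∑ j : Fin (𝓔.l + 1), Polynomial.C (𝓔.wt j) * (h j.succ - h j.castSucc) := by
    have e : ∑ j : Fin (𝓔.l + 1), (Polynomial.C (𝓔.wtX j.succ - 𝓔.wtX j.castSucc) * h j.succ +
        Polynomial.C (𝓔.wt j) * (h j.succ - h j.castSucc)) = ∑ j : Fin (𝓔.l + 1), (g j.succ - g j.castSucc) :=
      Finset.sum_congr rfl fun j _ => by simp [g, C_sub]; ring
    rw [Finset.sum_add_distrib, Finset.sum_sub_distrib, ← A] at e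
    linear_combination e + B
  show W4swparbununimod.parPoly 𝓔 PX = _ - ∑ j : Fin (𝓔.l + 1), _ * h j.succ
  rw [key, W4swparbununimod.parPoly]
  simp only [hp]
  have e : ∀ j : Fin (𝓔.l + 1), W4swparbununimod.rpoly P - h j.castSucc - (W4swparbununimod.rpoly P - h j.succ) =
      h j.succ - h j.castSucc := fun j => by ring
  simp only [e]
  ring

variable {I : X.IdealSheafData} (h𝓔 : 𝓔.Along I) {d : ℕ}
  (hsupp : topologicalKrullDim ↥(CohB1.support E ∩ (I.support : Set X)) < (d : WithBot ℕ∞))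

omit hL [X.Over (Spec (CommRingCat.of k))] [IsProper (X ↘ Spec (CommRingCat.of k))] k in
include h𝓔 hsupp in
theorem dim_piece (j : Fin (𝓔.l + 2)) :
    topologicalKrullDim (CohB1.support (cokernel (𝓔.pieceX j).arrow)) < (d : WithBot ℕ∞) :=
  (dim_mono (support_piece 𝓔 h𝓔 j)).trans_lt hsupp

omit hL [X.Over (Spec (CommRingCat.of k))] [IsProper (X ↘ Spec (CommRingCat.of k))] k in
include h𝓔 hsupp in
theorem dim_induced {W : X.Modules} (ι : W ⟶ E) [Mono ι] (j : Fin (𝓔.l + 2)) :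
    topologicalKrullDim (CohB1.support (cokernel ((𝓔.induced ι).pieceX j).arrow)) < (d : WithBot ℕ∞) :=
  (dim_mono (support_induced 𝓔 ι j)).trans_lt (dim_piece 𝓔 h𝓔 hsupp j)

include hE hcoh hP hPX in
theorem coeff_parPoly {n : ℕ} (hn : d ≤ n)
    (hs : ∀ j, topologicalKrullDim (CohB1.support (cokernel (𝓔.pieceX j).arrow)) < (d : WithBot ℕ∞)) :
    (W4swparbununimod.parPoly 𝓔 PX).coeff n = (W4swparbununimod.rpoly P).coeff n := by
  obtain ⟨H, hH⟩ := exists_hilb_coker k hL 𝓔 hE hcoh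
  rw [parPoly_eq k hL 𝓔 hE hcoh hP hPX hH]
  rw [coeff_sub, finsetSum_coeff, Finset.sum_eq_zero, sub_zero]
  intro j _
  rw [Polynomial.coeff_C_mul, coeff_map,
    coeff_eq_zero k hL (isCoh_cokernel _ (hcoh j.succ).1 hE) (hH j.succ) hn (hs j.succ), map_zero, mul_zero]

end Hilb

/-- `D(m)/m^e → D_e` for a real polynomial of degree at most `e`. -/
theorem tendsto_eval_div_pow {D : ℝ[X]} {e : ℕ} (hD : D.natDegree ≤ e) :
    Filter.Tendsto (fun m : ℕ => D.eval (m : ℝ) / (m : ℝ) ^ e) Filter.atTop (nhds (D.coeff e)) := by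
  have hsum : ∀ m : ℕ, D.eval (m : ℝ) / (m : ℝ) ^ e =
      (∑ i ∈ Finset.range e, D.coeff i * ((m : ℝ) ^ i / (m : ℝ) ^ e)) + D.coeff e * ((m : ℝ) ^ e / (m : ℝ) ^ e) := by
    intro m
    rw [eval_eq_sum_range' (Nat.lt_succ_of_le hD), Finset.sum_range_succ, add_div, Finset.sum_div]
    simp only [mul_div_assoc]
  simp only [hsum]
  have h1 : Filter.Tendsto (fun m : ℕ => ∑ i ∈ Finset.range e, D.coeff i * ((m : ℝ) ^ i / (m : ℝ) ^ e))
      Filter.atTop (nhds (∑ i ∈ Finset.range e, D.coeff i * 0)) :=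
    tendsto_finsetSum _ fun i hi => ((tendsto_pow_div_pow_atTop_zero (Finset.mem_range.1 hi)).comp
      tendsto_natCast_atTop_atTop).const_mul _
  have h2 : Filter.Tendsto (fun m : ℕ => D.coeff e * ((m : ℝ) ^ e / (m : ℝ) ^ e)) Filter.atTop
      (nhds (D.coeff e * 1)) := by
    refine Filter.Tendsto.const_mul _ (tendsto_const_nhds.congr' ?_)
    filter_upwards [Filter.eventually_ge_atTop 1] with m hm
    rw [div_self (pow_ne_zero _ (by positivity))]
  simpa using h1.add h2

end Groth.Agent.ParHilbW15
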