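import Groth.Agent.ParHilbW15.Basic
import Groth.Agent.EulerLib.StabHN

/-!
# The first modified parabolic polynomial versus the parabolic polynomial; saturation
-/

set_option autoImplicit false
set_option linter.style.haveILetI false
set_option backward.isDefEq.respectTransparency false

universe u

open CategoryTheory CategoryTheory.Limits AlgebraicGeometry Polynomial StabCat
open Groth.Agent Groth.Agent.Coherent Groth.Agent.EulerLib

namespace Groth.Agent.ParHilbW15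

variable (k : Type u) [Field k] {X : Scheme.{u}} [X.Over (Spec (CommRingCat.of k))]
  [IsProper (X ↘ Spec (CommRingCat.of k))] {L : X.Modules} (hL : CohB1.IsAmple L)
  {E : X.Modules} (𝓔 : ParSh.Str E)

omit hL [X.Over (Spec (CommRingCat.of k))] [IsProper (X ↘ Spec (CommRingCat.of k))] k in
/-- Abel summation with nonnegative data. -/
theorem abel_nonneg (x : Fin (𝓔.l + 2) → ℝ) (hx : ∀ j, 0 ≤ x j) :
    0 ≤ x (Fin.last (𝓔.l + 1)) + ∑ j : Fin (𝓔.l + 1), 𝓔.wt j * (x j.castSucc - x j.succ) := by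
  let g := fun j => 𝓔.wtX j * x j
  have A := Fin.sum_univ_succ g
  have B := Fin.sum_univ_castSucc g
  have gl : g (Fin.last _) = x (Fin.last _) := by simp [g]
  have g0 : 0 ≤ g 0 := by
    refine mul_nonneg ?_ (hx 0)
    rw [show (0 : Fin (𝓔.l + 2)) = (0 : Fin (𝓔.l + 1)).castSucc from rfl, 𝓔.wtX_castSucc]
    exact 𝓔.wt_nonneg
  have e : ∑ j : Fin (𝓔.l + 1), ((𝓔.wtX j.succ - 𝓔.wtX j.castSucc) * x j.succ -
      𝓔.wt j * (x j.castSucc - x j.succ)) = ∑ j : Fin (𝓔.l + 1), (g j.succ - g j.castSucc) :=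
    Finset.sum_congr rfl fun j _ => by simp [g]; ring
  rw [Finset.sum_sub_distrib, Finset.sum_sub_distrib] at e
  rw [gl] at B
  have h0 : 0 ≤ ∑ j : Fin (𝓔.l + 1), (𝓔.wtX j.succ - 𝓔.wtX j.castSucc) * x j.succ :=
    Finset.sum_nonneg fun j _ => mul_nonneg (wtX_succ_sub_pos 𝓔 j).le (hx _)
  linarith

omit hL [X.Over (Spec (CommRingCat.of k))] [IsProper (X ↘ Spec (CommRingCat.of k))] k in
theorem eval_rpoly (R : ℚ[X]) (m : ℕ) :
    (W4swparbununimod.rpoly R).eval (m : ℝ) = ((R.eval (m : ℚ) : ℚ) : ℝ) :=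
  Polynomial.eval_natCast_map _ _ _

include hL

/-- Semistable flag quotients: `par-P₁ ≤ Par` eventually. -/
theorem parPolyOne_le (hE : Coh.IsCoh E)
    (hcoh : ∀ j, Coh.IsCoh ((𝓔.pieceX j : Subobject E) : X.Modules)) {d : ℕ}
    {H : Fin (𝓔.l + 2) → ℚ[X]} (hH : ∀ j, ShStab.IsHilbPoly k X L (cokernel (𝓔.pieceX j).arrow) (H j))
    (hq : ∀ j : Fin (𝓔.l + 1), ShStab.IsSemistable k X L (cokernel (𝓔.pieceX j.succ).arrow) (d - 1))
    {W : X.Modules} (ι : W ⟶ E) [Mono ι] (hW : Coh.IsCoh W) {Q : ℚ[X]}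
    (hQ : ShStab.IsHilbPoly k X L W Q) {QX QH : Fin (𝓔.l + 2) → ℚ[X]}
    (hQX : ∀ j, ShStab.IsHilbPoly k X L (((𝓔.induced ι).pieceX j : Subobject W) : X.Modules) (QX j))
    (hQH : ∀ j, ShStab.IsHilbPoly k X L (cokernel ((𝓔.induced ι).pieceX j).arrow) (QH j)) :
    ∃ M : ℕ, ∀ m : ℕ, M ≤ m → (W4swparbununimod.parPolyOne 𝓔 d Q QH H).eval (m : ℝ) ≤
      (W4swparbununimod.parPoly (𝓔.induced ι) QX).eval (m : ℝ) := by
  haveI := isLocallyNoetherian k (X := X)
  have hcW := isCoh_induced 𝓔 ι hW hE hcoh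
  have key : ∀ j : Fin (𝓔.l + 1), ∀ᶠ m : ℕ in Filter.atTop, (QH j.succ).eval (m : ℚ) ≤
      (alpha (d - 1) (QH j.succ) / alpha (d - 1) (H j.succ)) * (H j.succ).eval (m : ℚ) := by
    intro j
    obtain ⟨hcE, hne, hpu, hss⟩ := hq j
    have hpos := alpha_pos_self k hL hcE hne hpu (hH j.succ)
    obtain ⟨κ, hκ⟩ : ∃ κ : cokernel ((𝓔.induced ι).pieceX j.succ).arrow ⟶ cokernel (𝓔.pieceX j.succ).arrow,
        Mono κ := by
      rw [induced_pieceX]
      exact ⟨_, Abelian.mono_cokernel_map_of_isPullback (Subobject.isPullback ι (𝓔.pieceX j.succ)).flip⟩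
    have hcK := isCoh_cokernel ((𝓔.induced ι).pieceX j.succ).arrow (hcW j.succ).1 hW
    by_cases hz : IsZero (cokernel ((𝓔.induced ι).pieceX j.succ).arrow)
    · refine Filter.Eventually.of_forall fun m => ?_
      rw [hilb_zero k hL hz (hQH j.succ)]
      simp [StabCat.alpha]
    by_cases hi : IsIso κ
    · refine Filter.Eventually.of_forall fun m => ?_
      rw [isHilbPoly_unique k (isHilbPoly_iso k (asIso κ) (hQH j.succ)) (hH j.succ), div_self hpos.ne', one_mul]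
    obtain ⟨N, hN⟩ := hss _ κ hκ hcK hz hi _ _ (hQH j.succ) (hH j.succ)
    filter_upwards [Filter.eventually_ge_atTop N] with m hm
    have := hN m hm
    simp only [Polynomial.eval_smul, smul_eq_mul] at this
    rw [div_mul_eq_mul_div, le_div_iff₀ hpos]
    linarith
  obtain ⟨M, hM⟩ := Filter.eventually_atTop.1 (Filter.eventually_all.2 key)
  refine ⟨M, fun m hm => ?_⟩
  rw [parPoly_eq k hL (𝓔.induced ι) hW hcW hQ hQX hQH, W4swparbununimod.parPolyOne]
  simp only [Polynomial.eval_sub, Polynomial.eval_finsetSum, Polynomial.eval_mul, Polynomial.eval_C, eval_rpoly]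
  refine sub_le_sub_left (Finset.sum_le_sum fun j _ => ?_) _
  show (𝓔.wtX j.succ - 𝓔.wtX j.castSucc) * _ ≤ _
  rw [mul_assoc, ← Rat.cast_mul]
  exact mul_le_mul_of_nonneg_left (Rat.cast_le.2 (hM m hm j)) (wtX_succ_sub_pos 𝓔 j).le

/-- Saturation of a submodule, with the inclusion. -/
theorem exists_sat (hE : Coh.IsCoh E) {d : ℕ} (hp' : ShStab.IsPure X E d) {W : X.Modules} (ι : W ⟶ E)
    [Mono ι] (hW : Coh.IsCoh W) (h0 : ¬ IsZero W) {Q : ℚ[X]} (hQ : ShStab.IsHilbPoly k X L W Q) :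
    ∃ (G : X.Modules) (κ : G ⟶ E) (φ : W ⟶ G) (pG : ℚ[X]), Mono κ ∧ φ ≫ κ = ι ∧ Coh.IsCoh G ∧ ¬ IsZero G ∧
      ShStab.IsPure X (cokernel κ) d ∧ ShStab.IsHilbPoly k X L G pG ∧ alpha d pG = alpha d Q := by
  haveI := isNoetherian_of_proper (X := X) k
  have hC := bot_lt_mk (hE := hE) ι hW h0
  have eF : (stabData k hL hE hp').Q ⊥ (CohSub.mk ι hW) = Q := Q_bot_mk k hL ι hW hQ
  obtain ⟨b, hcb, hα, hpure⟩ := RankData.exists_saturation (R := stabData k hL hE hp') hC.le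
  rw [eF] at hα
  have hle : Subobject.mk ι ≤ b.1 := hcb
  refine ⟨(b.1 : X.Modules), b.1.arrow, (Subobject.underlyingIso ι).inv ≫ Subobject.ofLE _ _ hle,
    _, inferInstance, by simp, b.2, not_isZero_of_bot_lt (hC.trans_le hcb), ?_, isHilbPoly_hp k hL _ b.2,
    (congrArg (alpha d) (Q_bot k hL b)).symm.trans hα⟩
  rcases (le_top : b ≤ ⊤).eq_or_lt with rfl | hlt
  · intro G g _ _ hG0
    haveI : IsIso ((⊤ : CohSub hE).1).arrow := (Subobject.isIso_arrow_iff_eq_top _).2 rfl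
    exact absurd (IsZero.of_mono g (isZero_cokernel_of_epi _)) hG0
  · exact isPure_of_mono (isPure_factor k hL (hlt.le) fun C hC _ => hpure C hC) (cokerTopIso b.1).inv

/-- Monotonicity of the induced parabolic polynomial. -/
theorem parPoly_mono (hE : Coh.IsCoh E)
    (hcoh : ∀ j, Coh.IsCoh ((𝓔.pieceX j : Subobject E) : X.Modules))
    {W G : X.Modules} (ι : W ⟶ E) [Mono ι] (hW : Coh.IsCoh W) (κ : G ⟶ E) [Mono κ] (hG : Coh.IsCoh G)
    (φ : W ⟶ G) (hφ : φ ≫ κ = ι) {QX RX : Fin (𝓔.l + 2) → ℚ[X]}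
    (hQX : ∀ j, ShStab.IsHilbPoly k X L (((𝓔.induced ι).pieceX j : Subobject W) : X.Modules) (QX j))
    (hRX : ∀ j, ShStab.IsHilbPoly k X L (((𝓔.induced κ).pieceX j : Subobject G) : X.Modules) (RX j)) :
    ∃ M : ℕ, ∀ m : ℕ, M ≤ m → (W4swparbununimod.parPoly (𝓔.induced ι) QX).eval (m : ℝ) ≤
      (W4swparbununimod.parPoly (𝓔.induced κ) RX).eval (m : ℝ) := by
  haveI := isLocallyNoetherian k (X := X)
  have hcW := isCoh_induced 𝓔 ι hW hE hcoh
  have hcG := isCoh_induced 𝓔 κ hG hE hcoh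
  haveI : Mono φ := mono_of_mono_fac hφ
  have key : ∀ j, ∀ᶠ m : ℕ in Filter.atTop, (QX j).eval (m : ℚ) ≤ (RX j).eval (m : ℚ) := by
    intro j
    have s₁ := Subobject.isPullback ι (𝓔.pieceX j)
    have s₂ := Subobject.isPullback κ (𝓔.pieceX j)
    obtain ⟨a, ha⟩ : ∃ a : (((𝓔.induced ι).pieceX j : Subobject W) : X.Modules) ⟶
        (((𝓔.induced κ).pieceX j : Subobject G) : X.Modules), Mono a := by
      rw [induced_pieceX, induced_pieceX]
      refine ⟨s₂.lift (Subobject.pullbackπ ι _) (((Subobject.pullback ι).obj (𝓔.pieceX j)).arrow ≫ φ)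
        (by rw [s₁.w, Category.assoc, hφ]), ?_⟩
      exact mono_of_mono_fac (s₂.lift_snd _ _ _)
    obtain ⟨R, hR, e⟩ := hilb_mono k hL a (hcW j) (hcG j) (hQX j) (hRX j)
    obtain ⟨N, hN⟩ := polyLE_zero k hL (isCoh_cokernel a (hcW j).1 (hcG j)) hR
    filter_upwards [Filter.eventually_ge_atTop N] with m hm
    have := hN m hm
    rw [Polynomial.eval_zero] at this
    rw [e, Polynomial.eval_add]
    linarith
  obtain ⟨M, hM⟩ := Filter.eventually_atTop.1 (Filter.eventually_all.2 key)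
  refine ⟨M, fun m hm => ?_⟩
  have h := abel_nonneg 𝓔 (fun j => (((RX j).eval (m : ℚ) : ℚ) : ℝ) - (((QX j).eval (m : ℚ) : ℚ) : ℝ))
    (fun j => sub_nonneg.2 (Rat.cast_le.2 (hM m hm j)))
  simp only [W4swparbununimod.parPoly, Polynomial.eval_add, Polynomial.eval_finsetSum, Polynomial.eval_mul,
    Polynomial.eval_C, Polynomial.eval_sub, eval_rpoly]
  simp only [mul_sub, Finset.sum_sub_distrib] at h ⊢
  exact sub_nonneg.1 (h.trans_eq (by simp only [ParSh.Str.induced]; ring))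

end Groth.Agent.ParHilbW15
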